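import Groth.Agent.Resolve.K372.RegSurf
import Groth.Agent.EtDl.K555.BlowGeo

/-!
# The blow-up of a regular scheme along a regular centre of codimension at least one

* `K762.BlowCodim.dense_compl`: if every point of the support of `I` has a local ring of dimension `≥ 1`, the
  complement of the support is dense.
* `K762.BlowCodim.exists_nhd`: at the points where `X` is regular of dimension `≤ 1` a blow-up along such an `I` is an
  isomorphism over an open neighbourhood.
* `K762.BlowCodim.exists_isoLocus`: the largest open subset `W` of `X` over which `b` is an isomorphism; it contains all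
  points `x` with `dim O_{X,x} ≤ 1` at which `X` is regular.
* `K762.BlowCodim.regular`: the blow-up of a regular scheme along a regular centre is regular.
-/

set_option autoImplicit false
universe u

open CategoryTheory CategoryTheory.Limits AlgebraicGeometry TopologicalSpace Opposite

namespace K762.BlowCodim

variable {X X' : Scheme.{u}}

/-- The local ring at a maximal point has dimension zero. -/
theorem dim_maximal (ζ : X) (hζ : ∀ ζ' : X, ζ' ⤳ ζ → ζ' = ζ) : ringKrullDim (X.presheaf.stalk ζ) ≤ 0 := by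
  have hsub : Subsingleton (PrimeSpectrum (X.presheaf.stalk ζ)) := by
    refine ⟨fun p q => ?_⟩
    have key : ∀ r : PrimeSpectrum (X.presheaf.stalk ζ), X.fromSpecStalk ζ r = ζ := fun r =>
      hζ _ (by
        have : X.fromSpecStalk ζ r ∈ Set.range (X.fromSpecStalk ζ) := ⟨r, rfl⟩
        rw [Scheme.range_fromSpecStalk] at this
        exact this)
    exact (X.fromSpecStalk ζ).isEmbedding.injective ((key p).trans (key q).symm)
  exact Order.krullDim_nonpos_of_subsingleton

/-- The complement of a closed subset of codimension `≥ 1` at all its points is dense. -/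
theorem dense_compl (I : X.IdealSheafData)
    (hY : ∀ x : X, x ∈ I.support → 1 ≤ ringKrullDim (X.presheaf.stalk x)) :
    Dense ((I.support : Set X)ᶜ) := by
  rw [dense_iff_inter_open]
  rintro V hV ⟨x, hx⟩
  obtain ⟨ζ, hζ, hm⟩ := K782.GenPt.exists_maximal x
  refine ⟨ζ, hζ.mem_open hV hx, fun h => ?_⟩
  have h1 := (hY ζ h).trans (dim_maximal ζ hm)
  exact absurd h1 (by norm_num)

/-- At a regular point of dimension `≤ 1` the blow-up along a centre of codimension `≥ 1` is an isomorphism. -/
theorem exists_nhd [IsLocallyNoetherian X] (I : X.IdealSheafData)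
    (hY : ∀ x : X, x ∈ I.support → 1 ≤ ringKrullDim (X.presheaf.stalk x)) (b : X' ⟶ X)
    (hb : BlowUp.IsBlowUp b I) (x : X) [IsRegularLocalRing (X.presheaf.stalk x)]
    (hx : ringKrullDim (X.presheaf.stalk x) ≤ 1) : ∃ V : X.Opens, x ∈ V ∧ IsIso (b ∣_ V) :=
  K372.RegSurf.exists_nhd_of_dim_le_one I b hb I.support.compl (dense_compl I hY) disjoint_compl_right x hx

/-- The largest open over which `b` is an isomorphism. -/
def isoLocus (b : X' ⟶ X) : X.Opens := ⨆ V : { V : X.Opens // IsIso (b ∣_ V) }, V.1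

theorem mem_isoLocus (b : X' ⟶ X) (x : X) : x ∈ isoLocus b ↔ ∃ V : X.Opens, x ∈ V ∧ IsIso (b ∣_ V) := by
  unfold isoLocus
  rw [Opens.mem_iSup]
  exact ⟨fun ⟨V, h⟩ => ⟨V.1, h, V.2⟩, fun ⟨V, h, h2⟩ => ⟨⟨V, h2⟩, h⟩⟩

theorem isIso_isoLocus (b : X' ⟶ X) : IsIso (b ∣_ isoLocus b) := by
  have h := (IsZariskiLocalAtTarget.iff_of_iSup_eq_top (P := MorphismProperty.isomorphisms Scheme.{u})
    (f := b ∣_ isoLocus b) (fun V : { V : X.Opens // IsIso (b ∣_ V) } => (isoLocus b).ι ⁻¹ᵁ V.1) ?_).2 ?_
  · exact h
  · rw [eq_top_iff]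
    rintro ⟨x, hx⟩ -
    obtain ⟨V, h, h2⟩ := (mem_isoLocus b x).1 hx
    exact Opens.mem_iSup.2 ⟨⟨V, h2⟩, h⟩
  · rintro ⟨V, hV⟩
    have hle : V ≤ isoLocus b := fun x hx => (mem_isoLocus b x).2 ⟨V, hx, hV⟩
    have e := morphismRestrictRestrict b (isoLocus b) ((isoLocus b).ι ⁻¹ᵁ V)
    refine ((MorphismProperty.isomorphisms Scheme.{u}).arrow_mk_iso_iff e).2 ?_
    have e2 : (isoLocus b).ι ''ᵁ ((isoLocus b).ι ⁻¹ᵁ V) = V := by
      ext x
      simp only [Scheme.Hom.image_preimage_eq_opensRange_inf, Scheme.Opens.opensRange_ι]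
      exact ⟨fun h => h.2, fun h => ⟨hle h, h⟩⟩
    rw [e2]
    exact hV

/-- **The locus where the blow-up is an isomorphism** contains the complement of the centre and all points of
codimension `≤ 1` at which `X` is regular; its complement has codimension `≥ 2`. -/
theorem exists_isoLocus [IsLocallyNoetherian X] (hreg : ∀ x : X, IsRegularLocalRing (X.presheaf.stalk x))
    (I : X.IdealSheafData) (hY : ∀ x : X, x ∈ I.support → 1 ≤ ringKrullDim (X.presheaf.stalk x)) (b : X' ⟶ X)
    (hb : BlowUp.IsBlowUp b I) : ∃ W : X.Opens, IsIso (b ∣_ W) ∧ I.support.compl ≤ W ∧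
      (∀ x : X, ringKrullDim (X.presheaf.stalk x) ≤ 1 → x ∈ W) := by
  refine ⟨isoLocus b, isIso_isoLocus b, fun x hx => (mem_isoLocus b x).2 ⟨I.support.compl, hx, ?_⟩, fun x hx => ?_⟩
  · exact Groth.Agent.Divis.BlowUpFormal.isIso_morphismRestrict_compl_support hb I.support.compl disjoint_compl_left
  · have := hreg x
    exact (mem_isoLocus b x).2 (exists_nhd I hY b hb x hx)

/-- **The blow-up of a regular scheme along a regular centre is regular.** -/
theorem regular [IsLocallyNoetherian X] (hreg : ∀ x : X, IsRegularLocalRing (X.presheaf.stalk x))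
    (I : X.IdealSheafData) (hYreg : ∀ y : ↥I.subscheme, IsRegularLocalRing (I.subscheme.presheaf.stalk y))
    (b : X' ⟶ X) (hb : BlowUp.IsBlowUp b I) (x' : X') : IsRegularLocalRing (X'.presheaf.stalk x') := by
  refine K555.BlowGeo.regular_blowUp hreg I.subschemeι
    (K555.BlowGeo.isRegularClosedImmersion I.subschemeι (fun y => hreg _) hYreg) hYreg (b := b) ?_ x'
  rw [Scheme.IdealSheafData.ker_subschemeι]
  exact hb

end K762.BlowCodim
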